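import Groth.Agent.H15Site.ModFlat
import Groth.Agent.H22Alg.ExactVanish
import Groth.Agent.H16Derived.KFlat.FinLocFree
import Groth.Agent.H16Derived.KFlat.FlatIff
import Groth.Agent.H10Coh.Serre
import Groth.Agent.H10Coh.FinH
import Groth.Agent.H10Coh.Descend
import Groth.Prelude.Def_DCoh4

/-!
# Classes along an exact complex of flat modules tensored with a module
-/

set_option autoImplicit false
set_option linter.style.haveILetI false
set_option backward.isDefEq.respectTransparency false

universe u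

open CategoryTheory CategoryTheory.Limits CategoryTheory.Abelian AlgebraicGeometry
open Groth.Agent.H10Coh

namespace Groth.Agent.H17.Horrocks

attribute [local instance 10000] hasSheafifyAb hasWeakSheafifyAb hasExtAb enoughInjAb

variable {X : Scheme.{u}}

/-- `K ↦ K ⊗ E`. -/
noncomputable abbrev tE (E : X.Modules) : X.Modules ⥤ X.Modules := (DCoh.tensorBi (X := X)).flip.obj E

instance additive_tE (E : X.Modules) : (tE E).Additive := H15Site.ModTensor.additive_tR (O := X.sheaf) E

theorem isFlat_of_mono {M : X.Modules} (h : FlatMod.IsFlat M) : ModSite.IsFlat (O := X.sheaf) M := by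
  refine (H15Site.ModTensor.isFlat_iff (O := X.sheaf) M).2 ⟨fun {A B} g _ => ?_⟩
  exact (((H16Derived.KFlat.Stalk.isFlat_iff_isFlatObj M).1 h)
    (ShortComplex.mk g (cokernel.π g) (cokernel.condition g))
    { exact := ShortComplex.exact_of_g_is_cokernel _ (cokernelIsCokernel g) }).mono_f

theorem isFlat_X₁ {S : ShortComplex X.Modules} (hS : S.ShortExact) (h₂ : ModSite.IsFlat (O := X.sheaf) S.X₂)
    (h₃ : ModSite.IsFlat (O := X.sheaf) S.X₃) : ModSite.IsFlat (O := X.sheaf) S.X₁ := by
  refine (H15Site.ModTensor.isFlat_iff (O := X.sheaf) S.X₁).2 ⟨fun {A B} g _ => ?_⟩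
  have hm := (H15Site.ModTensor.isFlat_iff (O := X.sheaf) S.X₂).1 h₂
  haveI := H15Site.ModTensor.preservesColimits_tL (O := X.sheaf) A
  haveI : PreservesFiniteColimits ((ModSite.tensorBi X.sheaf).obj A) :=
    PreservesColimitsOfSize.preservesFiniteColimits _
  haveI := H15Site.ModTensor.additive_of_preservesFiniteColimits ((ModSite.tensorBi X.sheaf).obj A)
  haveI hA : Mono (((DCoh.tensorBi (X := X)).obj A).map S.f) :=
    (H15Site.ModTensor.shortExact_tL_map_of_flat (O := X.sheaf) hS h₃ A).mono_f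
  haveI : Mono (((DCoh.tensorBi (X := X)).flip.obj S.X₂).map g) := hm.preserves g
  have e : ((DCoh.tensorBi (X := X)).flip.obj S.X₁).map g ≫ ((DCoh.tensorBi (X := X)).obj B).map S.f =
      ((DCoh.tensorBi (X := X)).obj A).map S.f ≫ ((DCoh.tensorBi (X := X)).flip.obj S.X₂).map g :=
    (((DCoh.tensorBi (X := X)).map g).naturality S.f).symm
  haveI : Mono (((DCoh.tensorBi (X := X)).obj A).map S.f ≫ ((DCoh.tensorBi (X := X)).flip.obj S.X₂).map g) :=
    mono_comp _ _
  exact mono_of_mono_fac (h := ((DCoh.tensorBi (X := X)).obj A).map S.f ≫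
    ((DCoh.tensorBi (X := X)).flip.obj S.X₂).map g) e

theorem shortExact_tE {S : ShortComplex X.Modules} (hS : S.ShortExact)
    (h₃ : ModSite.IsFlat (O := X.sheaf) S.X₃) (E : X.Modules) : (S.map (tE E)).ShortExact :=
  H15Site.ModTensor.shortExact_tR_map_of_flat (O := X.sheaf) hS h₃ E

/-- `φ` tensored with `K` kills `H^q`. -/
def Kills {E E' : X.Modules} (φ : E ⟶ E') (K : X.Modules) (q : ℕ) : Prop :=
  ∀ x : Coh.HH X ((tE E).obj K) q,
    Sheaf.H.map ((shF X).map (((DCoh.tensorBi (X := X)).flip.map φ).app K)) q x = 0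

theorem kills_iso {E E' : X.Modules} (φ : E ⟶ E') {K K' : X.Modules} (e : K ≅ K') {q : ℕ}
    (h : Kills φ K q) : Kills φ K' q := by
  intro x
  let y := Sheaf.H.map ((shF X).map ((tE E).map e.inv)) q x
  have hy := congrArg (Sheaf.H.map ((shF X).map ((tE E').map e.hom)) q) (h y)
  rw [map_zero, ← Sheaf.H.map_comp_apply, ← Sheaf.H.map_comp_apply, ← Functor.map_comp, ← Functor.map_comp] at hy
  rwa [← ((DCoh.tensorBi (X := X)).flip.map φ).naturality e.hom, ← Category.assoc, ← Functor.map_comp,
    e.inv_hom_id, CategoryTheory.Functor.map_id, Category.id_comp] at hy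

theorem kills_zero {E E' : X.Modules} (φ : E ⟶ E') {K : X.Modules} (h : IsZero K) (q : ℕ) : Kills φ K q := by
  intro x
  have h0 : ((DCoh.tensorBi (X := X)).flip.map φ).app K = 0 :=
    ((tE E).map_isZero h).eq_of_src _ _
  rw [h0, Functor.map_zero]
  change ((Sheaf.functorH _ q).map (0 : sh ((tE E).obj K) ⟶ sh ((tE E').obj K))).hom x = 0
  rw [Functor.map_zero]
  rfl

/-- A killed map in degree `q` stays killed one step up. -/
theorem kills_step {S : ShortComplex X.Modules} (hS : S.ShortExact) (h₃ : ModSite.IsFlat (O := X.sheaf) S.X₃)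
    {E E' : X.Modules} (φ : E ⟶ E') {q q' : ℕ} (hq : q + 1 = q')
    (h₂ : Subsingleton (Coh.HH X ((tE E).obj S.X₂) q')) (hk : Kills φ S.X₃ q) : Kills φ S.X₁ q' := by
  intro x
  let hE := shortExact_sh (shortExact_tE hS h₃ E)
  let hE' := shortExact_sh (shortExact_tE hS h₃ E')
  obtain ⟨y, hy⟩ := Ext.covariant_sequence_exact₁ _ hE x (h₂.elim _ _) hq
  let t : (S.map (tE E)).map (shF X) ⟶ (S.map (tE E')).map (shF X) :=
    { τ₁ := (shF X).map (((DCoh.tensorBi (X := X)).flip.map φ).app S.X₁)
      τ₂ := (shF X).map (((DCoh.tensorBi (X := X)).flip.map φ).app S.X₂)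
      τ₃ := (shF X).map (((DCoh.tensorBi (X := X)).flip.map φ).app S.X₃)
      comm₁₂ := by
        refine ((shF X).map_comp _ _).symm.trans (Eq.trans ?_ ((shF X).map_comp _ _))
        exact congrArg (shF X).map (((DCoh.tensorBi (X := X)).flip.map φ).naturality S.f).symm
      comm₂₃ := by
        refine ((shF X).map_comp _ _).symm.trans (Eq.trans ?_ ((shF X).map_comp _ _))
        exact congrArg (shF X).map (((DCoh.tensorBi (X := X)).flip.map φ).naturality S.g).symm }
  subst hq
  rw [← hy]
  change (y.comp hE.extClass rfl).comp (Ext.mk₀ t.τ₁) (add_zero (q + 1)) = 0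
  rw [Ext.comp_assoc_of_third_deg_zero, ShortComplex.ShortExact.extClass_naturality hE hE' t,
    ← Ext.comp_assoc_of_second_deg_zero]
  refine (congrArg (fun z => Ext.comp z hE'.extClass rfl) (hk y)).trans ?_
  exact map_zero (hE'.extClass.postcomp _ rfl)

theorem subsingleton_HH_iso {M N : X.Modules} (e : M ≅ N) (q : ℕ) (h : Subsingleton (Coh.HH X M q)) :
    Subsingleton (Coh.HH X N q) :=
  haveI : Subsingleton (Sheaf.H.{u} ((shF X).obj M) q) := h
  Function.Surjective.subsingleton (f := Sheaf.H.map ((shF X).map e.hom) q) fun y =>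
    ⟨Sheaf.H.map ((shF X).map e.inv) q y, by
      rw [← Sheaf.H.map_comp_apply, ← Functor.map_comp, e.inv_hom_id, CategoryTheory.Functor.map_id,
        Sheaf.H.map_id_apply]⟩

section complex

variable {K : ℕ → X.Modules} {d : ∀ j, K j ⟶ K (j + 1)} (w : ∀ j, d j ≫ d (j + 1) = 0)
  (hex : ∀ j, (ShortComplex.mk (d j) (d (j + 1)) (w j)).Exact)

include hex in
theorem isFlat_cycles (N : ℕ) (hN : IsZero (K (N + 1))) (hK : ∀ j, j ≤ N → ModSite.IsFlat (O := X.sheaf) (K j)) :
    ∀ e j, j + e = N → ModSite.IsFlat (O := X.sheaf) (kernel (d j)) := by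
  intro e
  induction e with
  | zero =>
    intro j hj
    subst hj
    exact H15Site.ModTensor.isFlat_of_iso (O := X.sheaf)
      (kernelZeroIsoSource.symm ≪≫ kernelIsoOfEq (hN.eq_of_tgt (0 : K j ⟶ K (j + 1)) (d j))) (hK j le_rfl)
  | succ e ih =>
    intro j hj
    exact isFlat_X₁ (H22Alg.ExactVanish.shortExact_cycles w hex j) (hK j (by omega)) (ih (j + 1) (by omega))

include hex in
/-- If `φ` kills the last term in degree zero, it kills the first in the top degree. -/
theorem kills_bottom (hd0 : Mono (d 0)) (N : ℕ) (hN : IsZero (K (N + 2)))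
    (hK : ∀ j, j ≤ N + 1 → ModSite.IsFlat (O := X.sheaf) (K j)) {E E' : X.Modules} (φ : E ⟶ E')
    (hvan : ∀ j e, j + e = N + 1 → 1 ≤ j → 1 ≤ e → Subsingleton (Coh.HH X ((tE E).obj (K j)) e))
    (h : Kills φ (K (N + 1)) 0) : Kills φ (K 0) N := by
  have key : ∀ e j, 1 ≤ j → j + e = N + 1 → Kills φ (kernel (d j)) e := by
    intro e
    induction e with
    | zero =>
      intro j _ hj
      obtain rfl : j = N + 1 := by omega
      exact kills_iso φ (kernelZeroIsoSource.symm ≪≫
        kernelIsoOfEq (hN.eq_of_tgt (0 : K (N + 1) ⟶ K (N + 1 + 1)) (d (N + 1)))) h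
    | succ e ih =>
      intro j hj1 hj
      exact kills_step (H22Alg.ExactVanish.shortExact_cycles w hex j)
        (isFlat_cycles w hex (N + 1) hN hK e (j + 1) (by omega)) φ (q := e) (q' := e + 1) rfl
        (hvan j (e + 1) hj hj1 (by omega)) (ih (j + 1) (by omega) (by omega))
  haveI := hd0
  have hS := H22Alg.ExactVanish.shortExact_cycles w hex 0
  haveI : IsIso (H22Alg.ExactVanish.toCycles w 0) := by
    haveI : Epi (H22Alg.ExactVanish.toCycles w 0) := hS.epi_g
    haveI : Mono (H22Alg.ExactVanish.toCycles w 0 ≫ kernel.ι (d (0 + 1))) := by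
      rw [H22Alg.ExactVanish.toCycles, kernel.lift_ι]; exact hd0
    haveI : Mono (H22Alg.ExactVanish.toCycles w 0) := mono_of_mono _ (kernel.ι (d (0 + 1)))
    exact isIso_of_mono_of_epi _
  exact kills_iso φ (asIso (H22Alg.ExactVanish.toCycles w 0)).symm (key N 1 le_rfl (by omega))

include hex in
/-- Vanishing of the last term in degree zero from vanishing along the complex. -/
theorem subsingleton_last (hd0 : Mono (d 0)) (N : ℕ) (hN : IsZero (K (N + 2)))
    (hK : ∀ j, j ≤ N + 1 → ModSite.IsFlat (O := X.sheaf) (K j)) (E : X.Modules)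
    (hvan : ∀ j e, j + e = N → Subsingleton (Coh.HH X ((tE E).obj (K j)) e)) :
    Subsingleton (Coh.HH X ((tE E).obj (K (N + 1))) 0) := by
  haveI := hd0
  have key : ∀ j e, j + e = N + 1 → Subsingleton (Coh.HH X ((tE E).obj (kernel (d j))) e) := by
    intro j
    induction j with
    | zero =>
      intro e _
      have hz : IsZero (sh ((tE E).obj (kernel (d 0)))) :=
        (shF X).map_isZero ((tE E).map_isZero ((isZero_zero _).of_iso (kernel.ofMono (d 0))))
      refine subsingleton_of_forall_eq 0 fun x => ?_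
      change (show Ext.{u} _ (sh ((tE E).obj (kernel (d 0)))) e from x) = 0
      rw [← Ext.comp_mk₀_id x, hz.eq_of_src (𝟙 _) 0, Ext.mk₀_zero, Ext.comp_zero]
    | succ j ih =>
      intro e he
      have hT := shortExact_sh (shortExact_tE (H22Alg.ExactVanish.shortExact_cycles w hex j)
        (isFlat_cycles w hex (N + 1) hN hK e (j + 1) he) E)
      refine subsingleton_of_forall_eq 0 fun x => ?_
      obtain ⟨y, rfl⟩ := Ext.covariant_sequence_exact₃ _ hT x (n₁ := e + 1) rfl ((ih (e + 1) (by omega)).elim _ _)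
      refine (congrArg (fun z => Ext.comp z _ (add_zero e)) ((hvan j e (by omega)).elim y 0)).trans ?_
      exact map_zero ((Ext.mk₀ _).postcomp _ (add_zero e))
  exact subsingleton_HH_iso ((tE E).mapIso ((kernelZeroIsoSource.symm ≪≫
    kernelIsoOfEq (hN.eq_of_tgt (0 : K (N + 1) ⟶ K (N + 1 + 1)) (d (N + 1)))).symm)) 0 (key (N + 1) 0 rfl)

end complex

end Groth.Agent.H17.Horrocks
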