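import Groth.Agent.H17.Horrocks.Twists
import Groth.Agent.H17.Horrocks.Chain
import Groth.Prelude.Def_PicGrp
import Groth.Agent.H22Alg.KosTwist
import Groth.Agent.H11Ample.ToPn
import Groth.Agent.H8Props.FinLocFree.Global

/-!
# The Koszul complex of the coordinates on projective space
-/

set_option autoImplicit false
set_option linter.style.haveILetI false
set_option backward.isDefEq.respectTransparency false

universe u

open CategoryTheory CategoryTheory.Limits ZeroObject CategoryTheory.Abelian AlgebraicGeometry TopologicalSpace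
open Groth.Agent.H10Coh Groth.Agent.H22Alg

namespace Groth.Agent.H17.Horrocks

attribute [local instance 10000] hasSheafifyAb hasWeakSheafifyAb hasExtAb enoughInjAb

variable {n : ℕ} {R : Type u} [CommRing R]

/-- The coordinates, extended by zero. -/
noncomputable def coords (n : ℕ) (R : Type u) [CommRing R] (j : ℕ) : Γ(Pn.Od n R 1, ⊤) :=
  if h : j < n + 1 then ProjUP.coord n R ⟨j, h⟩ else 0

theorem coords_cover (z : Proj (Pn.Gr n R)) :
    ∃ j < n + 1, z ∈ H11Ample.gen (Pn.Od n R 1) (coords n R j) := by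
  obtain ⟨i, hi⟩ := H11Ample.exists_mem_basicOpen_X (n := n) (R := R) z
  refine ⟨i.1, i.2, ?_⟩
  rw [coords, dif_pos i.2]
  exact (H11Ample.gen_coord (n := n) (R := R) i).ge hi

theorem isFlat_od (d : ℤ) : ModSite.IsFlat (O := (Proj (Pn.Gr n R)).sheaf) (Pn.Od n R d) := by
  refine isFlat_of_mono (H16Derived.KFlat.Stalk.isFlat_of_isFinLocFree fun x => ?_)
  obtain ⟨U, hxU, ⟨e⟩⟩ := H11Tilde.isInvertible_twist (Pn.Gr n R) (PnExt.degOne n R) d x
  exact ⟨U, 1, hxU, ⟨e ≪≫ (coproductUniqueIso fun _ : Fin 1 => Coh.structureModule (U : Scheme.{u})).symm⟩⟩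

theorem nonempty_A (c : ℤ) : ∀ (t : ℕ) (a : ℤ), a = c + t →
    Nonempty (KosTwist.A (Pn.Od n R 1) (Pn.Od n R c) t ≅ Pn.Od n R a)
  | 0, a, h => by
    obtain rfl : a = c := by simpa using h
    exact ⟨Iso.refl _⟩
  | t + 1, a, h => by
    obtain ⟨e⟩ := nonempty_A c t (c + t) rfl
    obtain ⟨e'⟩ := PnExt.nonempty_tensor_od n R (show a = (c + t) + 1 by rw [h]; push_cast; ring)
    have e'' : CohB1.tensorMod (Pn.Od n R (c + t)) (Pn.Od n R 1) ≅ Pn.Od n R a := e'
    exact ⟨PicGrp.tensorModIso e (Iso.refl _) ≪≫ e''⟩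

theorem isFlat_biprod {X : Scheme.{u}} {M N : X.Modules} (hM : ModSite.IsFlat (O := X.sheaf) M)
    (hN : ModSite.IsFlat (O := X.sheaf) N) : ModSite.IsFlat (O := X.sheaf) (M ⊞ N) := by
  have hs := (ShortComplex.Splitting.ofHasBinaryBiproduct M N).shortExact
  suffices H : ∀ (A B : X.Modules) (g : A ⟶ B), Mono g → Mono (((DCoh.tensorBi (X := X)).flip.obj (M ⊞ N)).map g)
    from (H15Site.ModTensor.isFlat_iff (O := X.sheaf) (M ⊞ N)).2 ⟨fun {A B} g hg => H A B g hg⟩
  intro A B g _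
  haveI : Mono (((DCoh.tensorBi (X := X)).flip.obj M).map g) :=
    ((H15Site.ModTensor.isFlat_iff (O := X.sheaf) M).1 hM).preserves g
  haveI : Mono (((DCoh.tensorBi (X := X)).flip.obj N).map g) :=
    ((H15Site.ModTensor.isFlat_iff (O := X.sheaf) N).1 hN).preserves g
  haveI := H15Site.ModTensor.preservesColimits_tL (O := X.sheaf) A
  haveI : PreservesFiniteColimits ((ModSite.tensorBi X.sheaf).obj A) :=
    PreservesColimitsOfSize.preservesFiniteColimits _
  haveI : ((DCoh.tensorBi (X := X)).obj A).Additive :=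
    H15Site.ModTensor.additive_of_preservesFiniteColimits ((ModSite.tensorBi X.sheaf).obj A)
  refine Preadditive.mono_of_cancel_zero _ fun {W} t ht => ?_
  have e : ∀ {K L : X.Modules} (b : K ⟶ L),
      ((DCoh.tensorBi (X := X)).flip.obj K).map g ≫ ((DCoh.tensorBi (X := X)).obj B).map b =
        ((DCoh.tensorBi (X := X)).obj A).map b ≫ ((DCoh.tensorBi (X := X)).flip.obj L).map g :=
    fun b => (((DCoh.tensorBi (X := X)).map g).naturality b).symm
  have h1 : t ≫ ((DCoh.tensorBi (X := X)).obj A).map biprod.fst = 0 := by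
    rw [← cancel_mono (((DCoh.tensorBi (X := X)).flip.obj M).map g), Category.assoc, zero_comp, ← e,
      ← Category.assoc, ht, zero_comp]
  have h2 : t ≫ ((DCoh.tensorBi (X := X)).obj A).map biprod.snd = 0 := by
    rw [← cancel_mono (((DCoh.tensorBi (X := X)).flip.obj N).map g), Category.assoc, zero_comp, ← e,
      ← Category.assoc, ht, zero_comp]
  have hid : t = t ≫ ((DCoh.tensorBi (X := X)).obj A).map (biprod.fst ≫ biprod.inl + biprod.snd ≫ biprod.inr :
      M ⊞ N ⟶ M ⊞ N) := by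
    rw [biprod.total, CategoryTheory.Functor.map_id]
    exact (Category.comp_id t).symm
  rw [hid, Functor.map_add, Functor.map_comp, Functor.map_comp, Preadditive.comp_add, ← Category.assoc,
    ← Category.assoc, h1, h2, zero_comp, zero_comp, add_zero]

theorem isFlat_zero {X : Scheme.{u}} {M : X.Modules} (h : IsZero M) : ModSite.IsFlat (O := X.sheaf) M := by
  refine (H15Site.ModTensor.isFlat_iff (O := X.sheaf) M).2 ⟨fun {A B} g _ => ?_⟩
  haveI := H15Site.ModTensor.preservesColimits_tL (O := X.sheaf) A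
  haveI : PreservesFiniteColimits ((ModSite.tensorBi X.sheaf).obj A) :=
    PreservesColimitsOfSize.preservesFiniteColimits _
  haveI : ((DCoh.tensorBi (X := X)).obj A).Additive :=
    H15Site.ModTensor.additive_of_preservesFiniteColimits ((ModSite.tensorBi X.sheaf).obj A)
  have hz : IsZero (((DCoh.tensorBi (X := X)).obj A).obj M) := ((DCoh.tensorBi (X := X)).obj A).map_isZero h
  exact ⟨fun a b _ => hz.eq_of_tgt a b⟩

/-- Vanishing passes to the middle of a biproduct. -/
theorem subsingleton_biprod {X : Scheme.{u}} (E M N : X.Modules) (q : ℕ)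
    (hM : Subsingleton (Coh.HH X ((tE E).obj M) q)) (hN : Subsingleton (Coh.HH X ((tE E).obj N) q)) :
    Subsingleton (Coh.HH X ((tE E).obj (M ⊞ N)) q) := by
  have hS := shortExact_sh ((ShortComplex.Splitting.ofHasBinaryBiproduct M N).map (tE E)).shortExact
  refine subsingleton_of_forall_eq 0 fun x => ?_
  obtain ⟨y, rfl⟩ := Ext.covariant_sequence_exact₂ _ hS x (hN.elim _ _)
  refine (congrArg (fun z => Ext.comp z _ (add_zero q)) (hM.elim y 0)).trans ?_
  exact map_zero ((Ext.mk₀ _).postcomp _ (add_zero q))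

theorem nonempty_L_zero {C : Type*} [Category C] [Abelian C] (A : ℕ → C) :
    ∀ r, Nonempty (KosLine.L A r 0 0 ≅ A 0)
  | 0 => ⟨Iso.refl _⟩
  | r + 1 => nonempty_L_zero A r

/-- The Koszul complex starting at `O(c)`. -/
theorem exists_koszul (n : ℕ) (R : Type u) [CommRing R] (c : ℤ) :
    ∃ (K : ℕ → (Proj (Pn.Gr n R)).Modules) (d : ∀ j, K j ⟶ K (j + 1)) (w : ∀ j, d j ≫ d (j + 1) = 0),
      (∀ j, (ShortComplex.mk (d j) (d (j + 1)) (w j)).Exact) ∧ Mono (d 0) ∧ IsZero (K (n + 2)) ∧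
      (∀ j, ModSite.IsFlat (O := (Proj (Pn.Gr n R)).sheaf) (K j)) ∧
      (∀ (j : ℕ) (E : (Proj (Pn.Gr n R)).Modules) q, Subsingleton (Coh.HH _ ((T n R (c + (j : ℤ))).obj E) q) →
        Subsingleton (Coh.HH _ ((tE E).obj (K j)) q)) ∧
      Nonempty (K 0 ≅ Pn.Od n R c) ∧ Nonempty (K (n + 1) ≅ Pn.Od n R (c + (n + 1))) := by
  obtain ⟨h0, hex⟩ := KosTwist.exact (L := Pn.Od n R 1) (G := Pn.Od n R c) (v := coords n R)
    (H11Tilde.isInvertible_twist (Pn.Gr n R) (PnExt.degOne n R) 1) coords_cover 0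
  refine ⟨_, _, _, hex, h0, KosLine.isZero_L _ _ _ (by omega), fun j => ?_, fun j E q h => ?_, ?_, ?_⟩
  · refine KosLine.mem_L (A := KosTwist.A (Pn.Od n R 1) (Pn.Od n R c))
      (fun M => ModSite.IsFlat (O := (Proj (Pn.Gr n R)).sheaf) M) (isFlat_zero (isZero_zero _))
      (fun M N => isFlat_biprod) (n + 1) 0 j fun _ => ?_
    obtain ⟨e⟩ := nonempty_A (n := n) (R := R) c (0 + j) (c + j) (by simp)
    exact H15Site.ModTensor.isFlat_of_iso (O := (Proj (Pn.Gr n R)).sheaf) e.symm (isFlat_od _)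
  · refine KosLine.mem_L (A := KosTwist.A (Pn.Od n R 1) (Pn.Od n R c))
      (fun M => Subsingleton (Coh.HH _ ((tE E).obj M) q)) ?_
      (fun M N => subsingleton_biprod E M N q) (n + 1) 0 j fun _ => ?_
    · refine subsingleton_of_forall_eq 0 fun x => ?_
      have hz : IsZero (sh ((tE E).obj (0 : (Proj (Pn.Gr n R)).Modules))) :=
        (shF _).map_isZero ((tE E).map_isZero (isZero_zero _))
      change (show Ext.{u} _ (sh ((tE E).obj 0)) q from x) = 0
      rw [← Ext.comp_mk₀_id x, hz.eq_of_src (𝟙 _) 0, Ext.mk₀_zero, Ext.comp_zero]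
    · obtain ⟨e⟩ := nonempty_A (n := n) (R := R) c (0 + j) (c + j) (by simp)
      exact subsingleton_HH_iso ((tE E).mapIso e.symm) q h
  · exact nonempty_L_zero (KosTwist.A (Pn.Od n R 1) (Pn.Od n R c)) (n + 1)
  · obtain ⟨e⟩ := nonempty_A (n := n) (R := R) c (n + 1) (c + (n + 1)) (by push_cast; ring)
    exact ⟨(@asIso _ _ _ _ _ (KosLine.isIso_top (A := KosTwist.A (Pn.Od n R 1) (Pn.Od n R c)) (n + 1) 0 (n + 1)
      (Nat.zero_add _))) ≪≫ e⟩

end Groth.Agent.H17.Horrocks
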