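import Groth.Agent.H17.Horrocks.Twists
import Groth.Agent.H17.Horrocks.Chain
import Groth.Agent.H17.Horrocks.Koszul
import Groth.Agent.H17.PnExt.Main
import Groth.Agent.H10Coh.Proj.PnFinite

/-!
# Splitting of modules on projective space without intermediate cohomology
-/

set_option autoImplicit false
set_option linter.style.haveILetI false
set_option backward.isDefEq.respectTransparency false
set_option synthInstance.maxHeartbeats 400000

universe u

open CategoryTheory CategoryTheory.Limits CategoryTheory.Abelian AlgebraicGeometry TopologicalSpace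
open Groth.Agent.H10Coh

namespace Groth.Agent.H17.Horrocks

attribute [local instance 10000] hasSheafifyAb hasWeakSheafifyAb hasExtAb enoughInjAb

/-! ### Generalities -/

section general

variable {X : Scheme.{u}}

/-- `H^q` of a map. -/
noncomputable abbrev Hf {M N : X.Modules} (f : M ⟶ N) (q : ℕ) : Coh.HH X M q →+ Coh.HH X N q :=
  Sheaf.H.map ((shF X).map f) q

theorem Hf_comp {A B C : X.Modules} (f : A ⟶ B) (g : B ⟶ C) {q : ℕ} (x : Coh.HH X A q) :
    Hf (f ≫ g) q x = Hf g q (Hf f q x) := by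
  change Sheaf.H.map _ q x = _
  rw [Functor.map_comp, Sheaf.H.map_comp_apply]

theorem Hf_id {A : X.Modules} {q : ℕ} (x : Coh.HH X A q) : Hf (𝟙 A) q x = x := by
  change Sheaf.H.map _ q x = _
  rw [CategoryTheory.Functor.map_id, Sheaf.H.map_id_apply]

theorem subsingleton_retract {A B : X.Modules} (i : A ⟶ B) (p : B ⟶ A) (h : i ≫ p = 𝟙 A) (q : ℕ)
    (hB : Subsingleton (Coh.HH X B q)) : Subsingleton (Coh.HH X A q) := by
  refine subsingleton_of_forall_eq 0 fun x => ?_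
  rw [← Hf_id x, ← h, Hf_comp, hB.elim (Hf i q x) 0, map_zero]

theorem HH0_map {M N : X.Modules} (φ : M ⟶ N) (x : Coh.HH X M 0) :
    HH0Equiv N (Hf φ 0 x) = φ.app ⊤ (HH0Equiv M x) := by
  change H0Equiv (sh N) ⊤ (topEquiv (sh N) 0 (Sheaf.H.map ((shF X).map φ) 0 x)) = _
  rw [topEquiv_map]
  exact H0Equiv_map (F := sh M) (G := sh N) ((shF X).map φ) _

theorem map_of_iso_id {C : Type*} [Category C] {F : C ⥤ C} (η : F ≅ 𝟭 C) {A B : C} (f : A ⟶ B) :
    F.map f = (η.hom.app A ≫ f) ≫ η.inv.app B := by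
  have h := η.hom.naturality f
  dsimp only [Functor.id_map] at h
  rw [← h, Category.assoc, Iso.hom_inv_id_app, Category.comp_id]

/-- A section mapped to a unit splits the map. -/
theorem exists_section {E : X.Modules} (φ : E ⟶ Coh.structureModule X) (g : Γ(E, ⊤)) (c : Γ(X, ⊤))
    (h : c * (show Γ(X, ⊤) from φ.app ⊤ g) = 1) : ∃ σ : Coh.structureModule X ⟶ E, σ ≫ φ = 𝟙 _ := by
  refine ⟨H11Tilde.homOfGlobal E (c • g), ?_⟩
  refine Scheme.Modules.hom_ext _ _ fun V => ?_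
  refine ConcreteCategory.hom_ext _ _ fun r => ?_
  have h1 : φ.app ⊤ (c • g) = (show Γ(Coh.structureModule X, ⊤) from (1 : Γ(X, ⊤))) :=
    (Scheme.Modules.Hom.app_smul φ c g).trans h
  change φ.app V ((H11Tilde.homOfGlobal E (c • g)).app V r) = r
  rw [H11Tilde.homOfGlobal_app, Scheme.Modules.Hom.app_smul]
  have h2 : φ.app V (E.presheaf.map (homOfLE (le_top : V ≤ ⊤)).op (c • g)) =
      (show Γ(Coh.structureModule X, V) from (1 : Γ(X, V))) := by
    refine (ConcreteCategory.congr_hom (φ.mapPresheaf.naturality (homOfLE (le_top : V ≤ ⊤)).op) (c • g)).trans ?_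
    refine (congrArg ((Coh.structureModule X).presheaf.map (homOfLE (le_top : V ≤ ⊤)).op) h1).trans ?_
    exact map_one (X.presheaf.map (homOfLE (le_top : V ≤ ⊤)).op).hom
  rw [h2]
  exact mul_one (show Γ(X, V) from r)

end general

noncomputable local instance overProj (n : ℕ) (R : Type u) [CommRing R] :
    (Proj (Pn.Gr n R)).Over (Spec (CommRingCat.of R)) := ⟨Pn.toS n R⟩

/-- `H^q` of an additive functor at a finite coproduct. -/
theorem subsingleton_map_sigma {n : ℕ} {R : Type u} [CommRing R] {r : ℕ}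
    (G : Fin r → (Proj (Pn.Gr n R)).Modules) (F : (Proj (Pn.Gr n R)).Modules ⥤ (Proj (Pn.Gr n R)).Modules)
    [F.Additive] (q : ℕ) (h : ∀ j, Subsingleton (Coh.HH (Proj (Pn.Gr n R)) (F.obj (G j)) q)) :
    Subsingleton (Coh.HH (Proj (Pn.Gr n R)) (F.obj (∐ G)) q) := by
  obtain ⟨p, hp⟩ := PnExt.exists_decomp G
  refine subsingleton_of_forall_eq 0 fun x => ?_
  have hF := congrArg F.map hp
  rw [F.map_sum, CategoryTheory.Functor.map_id] at hF
  have hx := LinearMap.congr_fun ((H29Serre.lin_sum (R := R) (q := q) Finset.univ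
      fun j => F.map (p j ≫ Sigma.ι G j)).symm.trans
    ((congrArg (fun f => Canon.HHlin R f q) hF).trans (H29Serre.lin_id _))) x
  rw [LinearMap.id_apply, LinearMap.sum_apply] at hx
  rw [← hx]
  refine Finset.sum_eq_zero fun j _ => ?_
  rw [Functor.map_comp, H29Serre.lin_comp, LinearMap.comp_apply, (h j).elim (Canon.HHlin R (F.map (p j)) q x) 0,
    map_zero]

variable {d : ℕ} {k : Type u} [Field k]

/-- No intermediate cohomology. -/
def Mid (E : (Proj (Pn.Gr d k)).Modules) : Prop :=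
  ∀ (m : ℤ) (i : ℕ), 1 ≤ i → i < d → Subsingleton (Coh.HH (Proj (Pn.Gr d k)) ((T d k m).obj E) i)

/-- No sections in very negative degrees. -/
def Low (E : (Proj (Pn.Gr d k)).Modules) : Prop :=
  ∃ n₀ : ℤ, ∀ m : ℤ, m ≤ n₀ → Subsingleton (Coh.HH (Proj (Pn.Gr d k)) ((T d k m).obj E) 0)

theorem mid_retract {A B : (Proj (Pn.Gr d k)).Modules} (i : A ⟶ B) (p : B ⟶ A) (h : i ≫ p = 𝟙 A)
    (hB : Mid B) : Mid A := fun m j h1 h2 =>
  subsingleton_retract ((T d k m).map i) ((T d k m).map p)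
    (by rw [← Functor.map_comp, h, CategoryTheory.Functor.map_id]) j (hB m j h1 h2)

theorem low_retract {A B : (Proj (Pn.Gr d k)).Modules} (i : A ⟶ B) (p : B ⟶ A) (h : i ≫ p = 𝟙 A)
    (hB : Low B) : Low A := by
  obtain ⟨n₀, hn⟩ := hB
  exact ⟨n₀, fun m hm => subsingleton_retract ((T d k m).map i) ((T d k m).map p)
    (by rw [← Functor.map_comp, h, CategoryTheory.Functor.map_id]) 0 (hn m hm)⟩

/-- `H^i(O(a) ⊗ (O(b) ⊗ E)) = H^i(O(c) ⊗ E)`. -/
theorem van_comp {a b c : ℤ} (h : c = a + b) (E : (Proj (Pn.Gr d k)).Modules) (i : ℕ)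
    (hc : Subsingleton (Coh.HH (Proj (Pn.Gr d k)) ((T d k c).obj E) i)) :
    Subsingleton (Coh.HH (Proj (Pn.Gr d k)) ((T d k a).obj ((T d k b).obj E)) i) :=
  van_iso ((TCompIso h).app E).symm hc

theorem isZero_of_top (hd : 1 ≤ d) {E : (Proj (Pn.Gr d k)).Modules} (hE : Coh.IsCoh E) (hmid : Mid E)
    (hlow : Low E) (htop : ∀ m : ℤ, Subsingleton (Coh.HH (Proj (Pn.Gr d k)) ((T d k m).obj E) d)) :
    IsZero E := by
  obtain ⟨n₀, hn₀⟩ := hlow
  have h0 : ∀ m : ℤ, Subsingleton (Coh.HH (Proj (Pn.Gr d k)) ((T d k m).obj E) 0) := by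
    intro m
    by_cases hm : m ≤ n₀
    · exact hn₀ m hm
    refine Int.le_induction (m := n₀)
      (motive := fun j _ => Subsingleton (Coh.HH (Proj (Pn.Gr d k)) ((T d k j).obj E) 0)) (hn₀ n₀ le_rfl)
      (fun j _ ih => ?_) m (by omega)
    obtain ⟨K, dK, w, hex, hd0, hz, hflat, hvan, -, ⟨e⟩⟩ := exists_koszul d k (j - d)
    have hlast := subsingleton_last w hex hd0 d hz (fun i _ => hflat i) E fun i q hiq => hvan i E q (by
      rcases Nat.eq_zero_or_pos q with rfl | hq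
      · rw [show (j - d + (i : ℤ)) = j by omega]
        exact ih
      · rcases lt_or_eq_of_le (show q ≤ d by omega) with h' | h'
        · exact hmid _ q hq h'
        · subst h'
          exact htop _)
    have := subsingleton_HH_iso ((tE E).mapIso e) 0 hlast
    rw [show j + 1 = j - d + (d + 1) by omega]
    exact this
  obtain ⟨r, m, p, hp⟩ := H29Serre.exists_epi_negative (R := k) d E hE
  have hp0 : p = 0 := by
    refine Sigma.hom_ext _ _ fun i => ?_
    rw [comp_zero]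
    obtain ⟨e₁⟩ := nonempty_T_od (n := d) (R := k) (show (0 : ℤ) = -H29Serre.tw d m + H29Serre.tw d m by omega)
    obtain ⟨e₀⟩ := H11Tilde.nonempty_twist_zero_iso (Pn.Gr d k)
    refine (T d k (-H29Serre.tw d m)).map_injective ?_
    rw [Functor.map_zero, ← cancel_epi (e₀.inv ≫ e₁.inv), comp_zero]
    haveI hsub : Subsingleton Γ((T d k (-H29Serre.tw d m)).obj E, ⊤) :=
      @Equiv.subsingleton _ _ (HH0Equiv _).toEquiv.symm (h0 _)
    generalize (e₀.inv ≫ e₁.inv) ≫ (T d k (-H29Serre.tw d m)).map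
      (Sigma.ι (fun _ : Fin r => Pn.Od d k (H29Serre.tw d m)) i ≫ p) = f
    exact ((T d k (-H29Serre.tw d m)).obj E).unitHomEquiv.injective
      (Subtype.ext (funext fun W => by
        have hs := ((T d k (-H29Serre.tw d m)).obj E).unitHomEquiv f |>.2
          (homOfLE (le_top : W.unop ≤ ⊤)).op
        have hs' := ((T d k (-H29Serre.tw d m)).obj E).unitHomEquiv 0 |>.2
          (homOfLE (le_top : W.unop ≤ ⊤)).op
        rw [← hs, ← hs']
        exact congrArg _ (hsub.elim _ _)))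
  haveI := hp
  rw [IsZero.iff_id_eq_zero, ← cancel_epi p, hp0, zero_comp, zero_comp]

theorem subsingleton_top_of_ge (hd : 1 ≤ d) {E : (Proj (Pn.Gr d k)).Modules} (hE : Coh.IsCoh E) :
    ∃ N : ℤ, ∀ j : ℤ, N ≤ j → Subsingleton (Coh.HH (Proj (Pn.Gr d k)) ((T d k j).obj E) d) := by
  haveI : IsNoetherian (Proj (Pn.Gr d k)) := ProjQ.isNoetherian_proj (Pn.Gr d k)
  obtain ⟨r, m, p, hp⟩ := H29Serre.exists_epi_negative (R := k) d E hE
  refine ⟨-H29Serre.tw d m, fun j hj => ?_⟩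
  haveI := hp
  haveI : Epi ((T d k j).map p) := inferInstance
  have hG : Coh.IsCoh ((T d k j).obj (∐ fun _ : Fin r => Pn.Od d k (H29Serre.tw d m))) :=
    isCoh_T j (isCoh_sigma _ fun _ => ProjQ.isCoh_tilde_twist (Pn.Gr d k) _)
  have hS : (ShortComplex.mk (kernel.ι ((T d k j).map p)) ((T d k j).map p) (kernel.condition _)).ShortExact :=
    { exact := ShortComplex.exact_of_f_is_kernel _ (kernelIsKernel _) }
  have hs := H29Serre.surjective_lin (R := k) (q := d) hS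
    (H29Serre.subsingleton_HH_above d _ (isCoh_kernel ((T d k j).map p) hG (isCoh_T j hE).1).1)
  haveI : Subsingleton (Coh.HH (Proj (Pn.Gr d k)) ((T d k j).obj (∐ fun _ : Fin r => Pn.Od d k (H29Serre.tw d m))) d) :=
    subsingleton_map_sigma _ (T d k j) d fun _ => van_iso (nonempty_T_od (c := j + H29Serre.tw d m) rfl).some.symm
      (Pn.subsingleton_HH_Od d (by omega) (by unfold H29Serre.tw at *; omega))
  exact hs.subsingleton

theorem isUnit_of_ne_zero {c : Γ(Proj (Pn.Gr d k), ⊤)} (hc : c ≠ 0) : IsUnit c := by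
  obtain ⟨r, rfl⟩ := (Pn.bijective_constΓ (n := d) (R := k)).2 c
  exact (IsUnit.mk0 r fun h => hc (by rw [h]; exact map_zero (Coh.toGlobal (Pn.toS d k)))).map
    (Coh.toGlobal (Pn.toS d k))

/-- The normalised module has a trivial summand. -/
theorem exists_summand (hd : 1 ≤ d) {E : (Proj (Pn.Gr d k)).Modules} (hE : Coh.IsCoh E) (hmid : Mid E)
    (hvd : Subsingleton (Coh.HH (Proj (Pn.Gr d k)) ((T d k (-(d : ℤ))).obj E) d))
    (hne : ¬ Subsingleton (Coh.HH (Proj (Pn.Gr d k)) ((T d k (-((d : ℤ) + 1))).obj E) d)) :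
    ∃ (σ : Coh.structureModule (Proj (Pn.Gr d k)) ⟶ E) (φ : E ⟶ Coh.structureModule (Proj (Pn.Gr d k))),
      σ ≫ φ = 𝟙 _ := by
  obtain ⟨x, hx⟩ : ∃ x : Coh.HH (Proj (Pn.Gr d k)) ((T d k (-((d : ℤ) + 1))).obj E) d, x ≠ 0 := by
    by_contra h
    push Not at h
    exact hne (subsingleton_of_forall_eq 0 h)
  obtain ⟨ψ, hψ⟩ : ∃ ψ : Module.Dual k (Coh.HH (Proj (Pn.Gr d k)) ((T d k (-((d : ℤ) + 1))).obj E) d), ψ x ≠ 0 := by
    by_contra h
    push Not at h
    exact hx ((Module.forall_dual_apply_eq_zero_iff k x).1 h)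
  obtain ⟨φ', hφ', -⟩ := H29Serre.repDual_coherent (R := k) d _ (isCoh_T (-((d : ℤ) + 1)) hE) ψ
  have hx' : Hf φ' d x ≠ 0 := fun h => hψ ((LinearMap.congr_fun hφ' x).trans
    ((congrArg (H29Serre.trace d k) h).trans (map_zero _)))
  obtain ⟨e⟩ := nonempty_T_od (n := d) (R := k) (show -((d : ℤ) + 1) = -((d : ℤ) + 1) + 0 by omega)
  let φ₀ : E ⟶ Pn.Od d k 0 := (T d k (-((d : ℤ) + 1))).preimage (φ' ≫ e.inv)
  obtain ⟨e₀⟩ : Nonempty (Pn.Od d k 0 ≅ Coh.structureModule (Proj (Pn.Gr d k))) :=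
    H11Tilde.nonempty_twist_zero_iso (Pn.Gr d k)
  suffices hg : ∃ g : Γ(E, ⊤), (φ₀ ≫ e₀.hom).app ⊤ g ≠ 0 by
    obtain ⟨g, hg⟩ := hg
    obtain ⟨c, hc⟩ := (isUnit_of_ne_zero (c := (φ₀ ≫ e₀.hom).app ⊤ g) hg).exists_left_inv
    obtain ⟨σ, hσ⟩ := exists_section (φ₀ ≫ e₀.hom) g c hc
    exact ⟨σ, _, hσ⟩
  by_contra hg
  push Not at hg
  have hzero : ∀ z : Coh.HH (Proj (Pn.Gr d k)) E 0, Hf φ₀ 0 z = 0 := by
    intro z
    have h1 : Hf (φ₀ ≫ e₀.hom) 0 z = 0 :=
      (HH0Equiv _).injective ((HH0_map _ _).trans ((hg _).trans (map_zero _).symm))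
    have h2 := congrArg (Hf e₀.inv 0) h1
    rwa [map_zero, ← Hf_comp, Category.assoc, e₀.hom_inv_id, Category.comp_id] at h2
  obtain ⟨K, dK, w, hex, hd0, hz, hflat, hvan, ⟨eb⟩, ⟨et⟩⟩ := exists_koszul d k (-((d : ℤ) + 1))
  have h0 : Kills φ₀ (Pn.Od d k 0) 0 := fun y => by
    change Hf ((T d k 0).map φ₀) 0 y = 0
    rw [map_of_iso_id (TZeroIso (n := d) (R := k)) φ₀, Hf_comp, Hf_comp]
    exact (congrArg _ (hzero _)).trans (map_zero _)
  have hbot := kills_bottom w hex hd0 d hz (fun i _ => hflat i) φ₀ (fun i q hiq hi hq => hvan i E q (by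
      rcases lt_or_eq_of_le (show q ≤ d by omega) with h' | h'
      · exact hmid _ q hq h'
      · subst h'
        rw [show (-((q : ℤ) + 1) + (i : ℤ)) = -(q : ℤ) by omega]
        exact hvd))
    (kills_iso φ₀ (et ≪≫ eqToIso (congrArg (Pn.Od d k) (show -((d : ℤ) + 1) + ((d : ℤ) + 1) = 0 by omega))).symm h0)
  have hk : Hf ((T d k (-((d : ℤ) + 1))).map φ₀) d x = 0 := kills_iso φ₀ eb hbot x
  rw [Functor.map_preimage] at hk
  have h3 := congrArg (Hf e.hom d) hk
  rw [map_zero, ← Hf_comp, Category.assoc, e.inv_hom_id, Category.comp_id] at h3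
  exact hx' h3

theorem nonempty_cons {C : Type*} [Category C] [Abelian C] {r : ℕ} (a : C) (G : Fin r → C) (H : Fin (r + 1) → C)
    (h0 : H 0 = a) (hs : ∀ j : Fin r, H j.succ = G j) : Nonempty ((a ⊞ ∐ G) ≅ ∐ H) := by
  obtain rfl : G = fun j => H j.succ := funext fun j => (hs j).symm
  subst h0
  refine ⟨⟨biprod.desc (Sigma.ι H 0) (Sigma.desc fun j => Sigma.ι H j.succ),
    Sigma.desc (Fin.cases biprod.inl fun j => Sigma.ι (fun j => H j.succ) j ≫ biprod.inr), ?_, ?_⟩⟩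
  · refine biprod.hom_ext' _ _ ?_ (Sigma.hom_ext _ _ fun j => ?_) <;> simp
  · refine Sigma.hom_ext _ _ fun j => ?_
    induction j using Fin.cases <;> simp

theorem nontrivial_H0_od (a : ℤ) (ha : 0 ≤ a) :
    Nontrivial (Coh.HH (Proj (Pn.Gr d k)) (Pn.Od d k a) 0) := by
  lift a to ℕ using ha
  haveI : Nontrivial ↥(MvPolynomial.homogeneousSubmodule (Fin (d + 1)) k a) :=
    ⟨⟨MvPolynomial.monomial (Finsupp.single 0 a) 1, MvPolynomial.isHomogeneous_monomial 1 (Finsupp.degree_single _ _)⟩,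
      0, fun h => one_ne_zero (MvPolynomial.monomial_eq_zero.1 (congrArg Subtype.val h))⟩
  exact ((Equiv.ofBijective _ (Pn.HH0Od_bijective (n := d) (R := k) a)).trans
    (Equiv.ofBijective _ (Pn.homToAllowed_bijective (n := d) (R := k) a)).symm).nontrivial

theorem exists_iso_sum (hd : 1 ≤ d) (N : ℤ) : ∀ (m : ℕ) (E : (Proj (Pn.Gr d k)).Modules), Coh.IsCoh E → Mid E →
    Low E → (∀ j : ℤ, N - d ≤ j → Subsingleton (Coh.HH (Proj (Pn.Gr d k)) ((T d k j).obj E) d)) →
    Module.finrank k (Coh.HH (Proj (Pn.Gr d k)) ((T d k N).obj E) 0) ≤ m →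
    ∃ (r : ℕ) (a : Fin r → ℤ), Nonempty (E ≅ ∐ fun j => Pn.Od d k (a j)) := by
  intro m
  induction m using Nat.strong_induction_on with
  | _ m ih => ?_
  intro E hE hmid hlow hhigh hm
  by_cases htop : ∀ j : ℤ, Subsingleton (Coh.HH (Proj (Pn.Gr d k)) ((T d k j).obj E) d)
  · refine ⟨0, Fin.elim0, ⟨(isZero_of_top hd hE hmid hlow htop).iso ?_⟩⟩
    rw [IsZero.iff_id_eq_zero]
    exact Sigma.hom_ext _ _ fun j => j.elim0
  push Not at htop
  obtain ⟨a, ha, hamax⟩ := Int.exists_greatest_of_bdd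
    (P := fun j => ¬ Subsingleton (Coh.HH (Proj (Pn.Gr d k)) ((T d k j).obj E) d))
    ⟨N - d, fun j hj => le_of_not_ge fun h => hj (hhigh j h)⟩
    (htop.imp fun j hj => not_subsingleton_iff_nontrivial.2 hj)
  have haN : a < N - d := lt_of_not_ge fun h => ha (hhigh a h)
  let b : ℤ := a + d + 1
  obtain ⟨σ₁, φ₁, h₁⟩ := exists_summand hd (isCoh_T b hE)
    (fun j i h1 h2 => van_comp rfl E i (hmid (j + b) i h1 h2))
    (van_comp (show a + 1 = -(d : ℤ) + b by simp only [b]; omega) E d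
      (not_not.1 fun h => by have := hamax (a + 1) h; omega))
    (fun h => ha (van_iso ((TCompIso (show a = -((d : ℤ) + 1) + b by simp only [b]; omega)).app E) h))
  -- untwist the summand
  obtain ⟨σ, φ, hσφ⟩ : ∃ (σ : Pn.Od d k (-b) ⟶ E) (φ : E ⟶ Pn.Od d k (-b)), σ ≫ φ = 𝟙 _ := by
    let U := Coh.structureModule (Proj (Pn.Gr d k))
    obtain ⟨e₀⟩ := H11Tilde.nonempty_twist_zero_iso (Pn.Gr d k)
    obtain ⟨e₁⟩ := nonempty_T_od (n := d) (R := k) (show (0 : ℤ) = b + -b by omega)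
    let e : (T d k b).obj (Pn.Od d k (-b)) ≅ U := e₁ ≪≫ e₀
    refine ⟨(T d k b).preimage (e.hom ≫ σ₁), (T d k b).preimage (φ₁ ≫ e.inv), (T d k b).map_injective ?_⟩
    rw [Functor.map_comp, Functor.map_preimage, Functor.map_preimage, CategoryTheory.Functor.map_id,
      Category.assoc, reassoc_of% h₁, e.hom_inv_id]
  let E' := kernel φ
  let π : E ⟶ E' := kernel.lift φ (𝟙 E - φ ≫ σ)
    (by rw [Preadditive.sub_comp, Category.id_comp, Category.assoc, hσφ, Category.comp_id, sub_self])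
  have hπ : kernel.ι φ ≫ π = 𝟙 E' := by
    rw [← cancel_mono (kernel.ι φ), Category.assoc, kernel.lift_ι, Category.id_comp, Preadditive.comp_sub,
      Category.comp_id, kernel.condition_assoc, zero_comp, sub_zero]
  have hπ' : σ ≫ π = 0 := by
    rw [← cancel_mono (kernel.ι φ), Category.assoc, kernel.lift_ι, zero_comp, Preadditive.comp_sub,
      Category.comp_id, reassoc_of% hσφ, sub_self]
  haveI : IsNoetherian (Proj (Pn.Gr d k)) := ProjQ.isNoetherian_proj (Pn.Gr d k)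
  have hE' : Coh.IsCoh E' := isCoh_kernel φ hE (ProjQ.isCoh_tilde_twist (Pn.Gr d k) _).1
  have hfin : Module.Finite k (Coh.HH (Proj (Pn.Gr d k)) ((T d k N).obj E) 0) :=
    Pn.finite_HH_projSpace d _ (isCoh_T N hE) 0
  have hlt : Module.finrank k (Coh.HH (Proj (Pn.Gr d k)) ((T d k N).obj E') 0) <
      Module.finrank k (Coh.HH (Proj (Pn.Gr d k)) ((T d k N).obj E) 0) := by
    let p := Canon.HHlin k ((T d k N).map π) 0
    let i := Canon.HHlin k ((T d k N).map (kernel.ι φ)) 0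
    have hinj : Function.Injective i := Function.LeftInverse.injective (g := p) fun y => by
      change Hf _ 0 (Hf _ 0 y) = y
      rw [← Hf_comp, ← Functor.map_comp, hπ, CategoryTheory.Functor.map_id, Hf_id]
    rw [← LinearMap.finrank_range_of_inj hinj]
    refine Submodule.finrank_lt (fun htop' => ?_)
    obtain ⟨e⟩ := nonempty_T_od (n := d) (R := k) (show N - b = N + -b by omega)
    obtain ⟨z, hz⟩ := @exists_ne _ (nontrivial_H0_od (d := d) (k := k) (N - b) (by simp only [b]; omega)) 0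
    obtain ⟨y, hy⟩ := (Submodule.eq_top_iff'.1 htop') (Hf ((T d k N).map σ) 0 (Hf e.inv 0 z))
    refine hz ?_
    have h4 : Hf ((T d k N).map σ) 0 (Hf e.inv 0 z) = 0 := by
      have h5 := congrArg p hy
      change Hf _ 0 (Hf _ 0 y) = Hf _ 0 (Hf _ 0 (Hf _ 0 z)) at h5
      rw [← Hf_comp, ← Functor.map_comp, hπ, CategoryTheory.Functor.map_id, Hf_id, ← Hf_comp,
        ← Functor.map_comp, hπ', Functor.map_zero] at h5
      rw [show Hf (0 : (T d k N).obj (Pn.Od d k (-b)) ⟶ (T d k N).obj E') 0 (Hf e.inv 0 z) = 0 from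
        LinearMap.congr_fun (H29Serre.lin_zero (R := k) (q := 0)) _] at h5
      rw [← hy, h5, map_zero]
    have h6 := congrArg (fun t => Hf e.hom 0 (Hf ((T d k N).map φ) 0 t)) h4
    simp only [map_zero] at h6
    rwa [← Hf_comp ((T d k N).map σ), ← Functor.map_comp, hσφ, CategoryTheory.Functor.map_id, Hf_id,
      ← Hf_comp e.inv, e.inv_hom_id, Hf_id] at h6
  obtain ⟨r, c, ⟨ec⟩⟩ := ih _ (lt_of_lt_of_le hlt hm) E' hE' (mid_retract (kernel.ι φ) π hπ hmid)
    (low_retract (kernel.ι φ) π hπ hlow)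
    (fun j hj => subsingleton_retract ((T d k j).map (kernel.ι φ)) ((T d k j).map π)
      (by rw [← Functor.map_comp, hπ, CategoryTheory.Functor.map_id]) d (hhigh j hj)) le_rfl
  obtain ⟨ej⟩ := nonempty_cons (Pn.Od d k (-b)) (fun j => Pn.Od d k (c j))
    (fun j => Pn.Od d k ((Fin.cons (-b) c : Fin (r + 1) → ℤ) j)) (by simp) (fun j => by simp)
  refine ⟨r + 1, Fin.cons (-b) c, ⟨?_ ≪≫ biprod.mapIso (Iso.refl _) ec ≪≫ ej⟩⟩
  exact ⟨biprod.lift φ π, biprod.desc σ (kernel.ι φ),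
    by rw [biprod.lift_desc, kernel.lift_ι]; abel,
    by apply biprod.hom_ext' <;> apply biprod.hom_ext <;> simp [hσφ, hπ, hπ']⟩

theorem exists_iso_sum' (hd : 1 ≤ d) {E : (Proj (Pn.Gr d k)).Modules} (hE : Coh.IsCoh E) (hmid : Mid E)
    (hlow : Low E) : ∃ (r : ℕ) (a : Fin r → ℤ), Nonempty (E ≅ ∐ fun j => Pn.Od d k (a j)) := by
  obtain ⟨N, hN⟩ := subsingleton_top_of_ge hd hE
  exact exists_iso_sum hd (N + d) _ E hE hmid hlow (fun j hj => hN j (by omega)) le_rfl

theorem mid_low_of_sum (hd : 1 ≤ d) {r : ℕ} (a : Fin r → ℤ) {E : (Proj (Pn.Gr d k)).Modules}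
    (e : E ≅ ∐ fun j => Pn.Od d k (a j)) : Mid E ∧ Low E := by
  refine ⟨fun m i h1 h2 => ?_, ⟨-1 - ∑ j, |a j|, fun m hm => ?_⟩⟩
  · refine van_iso ((T d k m).mapIso e).symm (subsingleton_map_sigma _ (T d k m) i fun j => ?_)
    exact van_iso (nonempty_T_od (c := m + a j) rfl).some.symm (Pn.subsingleton_HH_Od i (by omega) (by omega))
  · refine van_iso ((T d k m).mapIso e).symm (subsingleton_map_sigma _ (T d k m) 0 fun j => ?_)
    have := (le_abs_self (a j)).trans
      (Finset.single_le_sum (f := fun j => |a j|) (fun _ _ => abs_nonneg _) (Finset.mem_univ j))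
    exact van_iso (nonempty_T_od (c := m + a j) rfl).some.symm
      (Pn.subsingleton_HH_Od 0 (by intro h; omega) (by omega))

end Groth.Agent.H17.Horrocks
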