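import Groth.Agent.H17.PnExt.Twist
import Groth.Agent.H15Site.ModFlat
import Groth.Agent.H15Site.Invertible
import Groth.Agent.H10Coh.FinType2
import Groth.Agent.H11Ample.Twist
import Groth.Agent.H10Coh.Proj.Coherent
import Groth.Agent.H29Serre.Duality
import Groth.Agent.H10Coh.Pn.Results

/-!
# Twisting functors on projective space
-/

set_option autoImplicit false
set_option linter.style.haveILetI false
set_option backward.isDefEq.respectTransparency false

universe u

open CategoryTheory CategoryTheory.Limits AlgebraicGeometry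
open Groth.Agent.H10Coh

namespace Groth.Agent.H17.Horrocks

attribute [local instance 10000] hasSheafifyAb hasWeakSheafifyAb hasExtAb enoughInjAb

variable {n : ℕ} {R : Type u} [CommRing R]

variable (n R) in
/-- `E ↦ O(a) ⊗ E`. -/
noncomputable abbrev T (a : ℤ) : (Proj (Pn.Gr n R)).Modules ⥤ (Proj (Pn.Gr n R)).Modules :=
  (DCoh.tensorBi (X := Proj (Pn.Gr n R))).obj (Pn.Od n R a)

instance isEquivalence_T (a : ℤ) : (T n R a).IsEquivalence := PnExt.tensor_isEquivalence n R a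

instance additive_T (a : ℤ) : (T n R a).Additive :=
  Functor.additive_of_preserves_binary_products _

/-- `O(a) ⊗ (O(b) ⊗ E) = O(c) ⊗ E` for `c = a + b`. -/
noncomputable def TCompIso {a b c : ℤ} (h : c = a + b) : T n R b ⋙ T n R a ≅ T n R c :=
  H15Site.Invertible.tLComp (O := (Proj (Pn.Gr n R)).sheaf) (Pn.Od n R a) (Pn.Od n R b) ≪≫
    (DCoh.tensorBi (X := Proj (Pn.Gr n R))).mapIso (PnExt.nonempty_tensor_od n R h).some

/-- `O(0) ⊗ E = E`. -/
noncomputable def TZeroIso : T n R 0 ≅ 𝟭 (Proj (Pn.Gr n R)).Modules :=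
  (DCoh.tensorBi (X := Proj (Pn.Gr n R))).mapIso (H11Tilde.nonempty_twist_zero_iso (Pn.Gr n R)).some ≪≫
    H15Site.ModOver.tensorUnitIso (Proj (Pn.Gr n R)).sheaf

theorem nonempty_T_od {a b c : ℤ} (h : c = a + b) : Nonempty ((T n R a).obj (Pn.Od n R b) ≅ Pn.Od n R c) :=
  PnExt.nonempty_tensor_od n R h

/-- `E ⊗ O(a) = O(a) ⊗ E`. -/
noncomputable def swapIso (E : (Proj (Pn.Gr n R)).Modules) (a : ℤ) :
    CohB1.tensorMod E (Pn.Od n R a) ≅ (T n R a).obj E :=
  H15Site.Invertible.symmIso (O := (Proj (Pn.Gr n R)).sheaf) E (Pn.Od n R a)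

theorem isCoh_T [IsNoetherianRing R] (a : ℤ) {E : (Proj (Pn.Gr n R)).Modules} (hE : Coh.IsCoh E) :
    Coh.IsCoh ((T n R a).obj E) :=
  isCoh_of_iso (swapIso E a)
    (H11Ample.isCoh_tensor hE (H11Tilde.isInvertible_twist (Pn.Gr n R) (PnExt.degOne n R) a))

/-- Vanishing is invariant under isomorphism. -/
theorem van_iso {M N : (Proj (Pn.Gr n R)).Modules} (e : M ≅ N) {q : ℕ}
    (h : Subsingleton (Coh.HH (Proj (Pn.Gr n R)) M q)) : Subsingleton (Coh.HH (Proj (Pn.Gr n R)) N q) :=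
  subsingleton_HH_of_iso e q h

theorem van_swap_iff (E : (Proj (Pn.Gr n R)).Modules) (a : ℤ) (q : ℕ) :
    Subsingleton (Coh.HH (Proj (Pn.Gr n R)) (CohB1.tensorMod E (Pn.Od n R a)) q) ↔
      Subsingleton (Coh.HH (Proj (Pn.Gr n R)) ((T n R a).obj E) q) :=
  ⟨van_iso (swapIso E a), van_iso (swapIso E a).symm⟩

end Groth.Agent.H17.Horrocks
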